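import Mathlib

/-!
# Additive polynomials and roots closed under addition (helper18)
-/

open Polynomial

namespace Groth.Agent.Lib.Helper18.FinSub

universe u

lemma hasseDeriv_map' {R S : Type*} [Semiring R] [Semiring S] (φ : R →+* S) (k : ℕ) (p : R[X]) :
    hasseDeriv k (p.map φ) = (hasseDeriv k p).map φ := by
  ext m
  simp [hasseDeriv_coeff, coeff_map]

/-- `f` is an additive polynomial (in Hasse-derivative form). -/
def IsAdd {K : Type*} [CommRing K] (f : K[X]) : Prop :=
  (∀ k, 1 ≤ k → hasseDeriv k f = C (f.coeff k)) ∧ f.coeff 0 = 0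

lemma eval₂_add_of_isAdd {K : Type*} [CommRing K] {f : K[X]} (hf : IsAdd f) {Γ : Type*} [CommRing Γ]
    (φ : K →+* Γ) (a b : Γ) : eval₂ φ (a + b) f = eval₂ φ a f + eval₂ φ b f := by
  set g := f.map φ with hg
  have h1 : taylor b g = g + C (eval b g) := by
    ext k
    rw [taylor_coeff, coeff_add, coeff_C]
    rcases Nat.eq_zero_or_pos k with rfl | hk
    · simp [hg, coeff_map, hf.2]
    · rw [if_neg (by omega), add_zero, hg, hasseDeriv_map', hf.1 k hk]
      simp [coeff_map]
  rw [eval₂_eq_eval_map, eval₂_eq_eval_map, eval₂_eq_eval_map, ← hg, ← taylor_eval, h1]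
  simp

theorem isAdd_of_roots_closed {K : Type u} [Field K] (f : K[X]) (hm : f.Monic) (hn : 1 ≤ f.natDegree)
    (h0 : f.coeff 0 = 0)
    (hadd : ∀ (R : Type u) [CommRing R] [Algebra K R] (r₁ r₂ : R),
      aeval r₁ f = 0 → aeval r₂ f = 0 → aeval (r₁ + r₂) f = 0) :
    IsAdd f := by
  refine ⟨?_, h0⟩
  intro k hk
  -- the universal root
  let B₀ := AdjoinRoot f
  let xB : B₀ := AdjoinRoot.root f
  haveI : Nontrivial B₀ := AdjoinRoot.nontrivial f (by
    intro h
    have h' : f.natDegree = 0 := natDegree_eq_of_degree_eq_some h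
    omega)
  set g : B₀[X] := f.map (algebraMap K B₀) with hg
  have hgm : g.Monic := hm.map _
  have hgn : g.natDegree = f.natDegree := hm.natDegree_map _
  let R := AdjoinRoot g
  have h1 : aeval (AdjoinRoot.root g) f = 0 := by
    rw [aeval_def, IsScalarTower.algebraMap_eq K B₀ R, ← eval₂_map]
    exact AdjoinRoot.eval₂_root g
  have h2 : aeval (algebraMap B₀ R xB) f = 0 := by
    rw [aeval_algebraMap_apply]
    have : aeval xB f = 0 := by
      rw [AdjoinRoot.aeval_eq]; exact AdjoinRoot.mk_self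
    rw [this, map_zero]
  have h3 := hadd R _ _ h1 h2
  -- translate: g ∣ taylor xB g
  have h4 : AdjoinRoot.mk g (taylor xB g) = 0 := by
    rw [taylor_apply, ← AdjoinRoot.aeval_eq, aeval_def, eval₂_comp]
    rw [aeval_def, IsScalarTower.algebraMap_eq K B₀ R, ← eval₂_map] at h3
    rw [← h3]
    congr 1
    simp [eval₂_add, AdjoinRoot.algebraMap_eq]
    rfl
  have h5 : g ∣ taylor xB g := AdjoinRoot.mk_eq_zero.mp h4
  have htm : (taylor xB g).Monic := by
    rw [Monic, leadingCoeff_taylor]; exact hgm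
  have h6 : taylor xB g = g :=
    eq_of_monic_of_dvd_of_natDegree_le hgm htm h5 (by rw [natDegree_taylor])
  -- coefficients
  have h7 : (hasseDeriv k g).eval xB = g.coeff k := by
    rw [← taylor_coeff, h6]
  rw [hg, hasseDeriv_map', coeff_map, ← eval₂_eq_eval_map, ← aeval_def] at h7
  have h8 : aeval xB (hasseDeriv k f - C (f.coeff k)) = 0 := by
    rw [map_sub, h7, aeval_C, sub_self]
  rw [AdjoinRoot.aeval_eq, AdjoinRoot.mk_eq_zero] at h8
  have hdeg : (hasseDeriv k f - C (f.coeff k)).natDegree < f.natDegree := by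
    refine lt_of_le_of_lt (natDegree_sub_le _ _) ?_
    rw [natDegree_C, max_lt_iff]
    refine ⟨lt_of_le_of_lt (natDegree_hasseDeriv_le f k) (by omega), by omega⟩
  have := eq_zero_of_dvd_of_natDegree_lt h8 hdeg
  exact sub_eq_zero.mp this

/-! ### flatness and integrality of polynomial substitutions -/

lemma flat_of_injective_of_dedekind {A A' : Type*} [CommRing A] [IsDomain A] [IsDedekindDomain A]
    [CommRing A'] [IsDomain A'] (θ : A →+* A') (hθ : Function.Injective θ) : θ.Flat := by
  unfold RingHom.Flat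
  letI := θ.toAlgebra
  haveI : Module.IsTorsionFree A A' := by
    refine ⟨fun r hr => ?_⟩
    have hr0 : r ≠ 0 := hr.ne_zero
    intro x y hxy
    simp only [Algebra.smul_def, RingHom.algebraMap_toAlgebra] at hxy
    have : θ r ≠ 0 := fun h => hr0 (hθ (by rw [h, map_zero]))
    exact mul_left_cancel₀ this hxy
  infer_instance

lemma aeval_self_injective {K : Type*} [Field K] (f : K[X]) (hn : 1 ≤ f.natDegree) :
    Function.Injective (aeval f : K[X] →ₐ[K] K[X]) := by
  rw [injective_iff_map_eq_zero]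
  intro p hp
  rw [← comp_eq_aeval, comp_eq_zero_iff] at hp
  rcases hp with hp | ⟨_, hf⟩
  · exact hp
  · exfalso
    rw [hf, natDegree_C] at hn
    omega

lemma aeval_self_isIntegral {K : Type*} [Field K] (f : K[X]) (hm : f.Monic) (hn : 1 ≤ f.natDegree) :
    ((aeval f : K[X] →ₐ[K] K[X]) : K[X] →+* K[X]).IsIntegral := by
  set θ : K[X] →+* K[X] := ((aeval f : K[X] →ₐ[K] K[X]) : K[X] →+* K[X]) with hθ
  have hC : ∀ a : K, θ (C a) = C a := fun a => by simp [hθ]
  have hX : θ.IsIntegralElem X := by
    refine ⟨f.map C - C X, ?_, ?_⟩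
    · apply Monic.sub_of_left (hm.map C)
      refine lt_of_le_of_lt degree_C_le ?_
      rw [hm.degree_map, degree_eq_natDegree hm.ne_zero]
      exact_mod_cast hn
    · rw [eval₂_sub, eval₂_C, eval₂_map]
      have h1 : θ.comp C = C := RingHom.ext hC
      rw [h1, eval₂_C_X]
      simp [hθ]
  intro p
  induction p using Polynomial.induction_on with
  | C a => rw [← hC a]; exact θ.isIntegralElem_map
  | add p q hp hq => exact RingHom.IsIntegralElem.add θ hp hq
  | monomial n a h =>
    rw [pow_succ, ← mul_assoc]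
    exact RingHom.IsIntegralElem.mul θ h hX

end Groth.Agent.Lib.Helper18.FinSub
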