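import Mathlib
import Groth.Agent.Lib.Helper25.GaPts
import Groth.Prelude.Def_AlgGrp

/-!
# Points of affine schemes over a field, kernels, closed immersions (helper18)

Common categorical part for finite subgroup schemes of `𝔾_a` and `𝔾_m`.
-/

set_option autoImplicit false
set_option linter.unusedSectionVars false
set_option linter.style.haveILetI false
set_option linter.unusedVariables false

namespace Groth.Agent.Lib.Helper18.FinSub

open CategoryTheory MonoidalCategory CartesianMonoidalCategory MonObj GrpObj AlgebraicGeometry Limits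
open Groth.Agent.Lib.Helper25.GaPts

universe u

variable {K : Type u} [CommRing K]

local notation "SK" => Spec (CommRingCat.of K)

section General

lemma appTop_sig {X Y : Over (Spec (CommRingCat.of K))} (ψ : X ⟶ Y) (c : K) :
    ψ.left.appTop (sig Y c) = sig X c := by
  unfold sig
  have h : X.hom = ψ.left ≫ Y.hom := (Over.w ψ).symm
  rw [h, Scheme.Hom.comp_appTop]
  rfl

lemma appTop_comp_sig {X Y : Over (Spec (CommRingCat.of K))} (ψ : X ⟶ Y) :
    ψ.left.appTop.hom.comp (sig Y) = sig X :=
  RingHom.ext fun c => appTop_sig ψ c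

lemma T_hom_ext {B : Type u} [CommRing B] [Algebra K B] {W : Over (Spec (CommRingCat.of K))}
    (f g : W ⟶ T B)
    (h : ∀ b : B, f.left.appTop (gamInv (k := K) B b) = g.left.appTop (gamInv (k := K) B b)) : f = g := by
  apply Over.OverMorphism.ext
  have : IsAffine (T (k := K) B).left := by unfold T; dsimp; infer_instance
  apply ext_of_isAffine
  apply CommRingCat.hom_ext
  apply RingHom.ext
  intro r
  obtain ⟨b, rfl⟩ : ∃ b, gamInv (k := K) B b = r := ⟨gam B r, gamInv_gam B r⟩
  exact h b

lemma gamInv_algebraMap (B : Type u) [CommRing B] [Algebra K B] (c : K) :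
    gamInv (k := K) B (algebraMap K B c) = sig (T B) c := by
  rw [← gam_sig B c, gamInv_gam]

/-- The ring homomorphism classified by a point of `Spec A`. -/
noncomputable def rho {A : Type u} [CommRing A] [Algebra K A] {W : Over (Spec (CommRingCat.of K))}
    (a : W ⟶ T A) : A →+* Γ(W.left, ⊤) :=
  a.left.appTop.hom.comp (gamInv (k := K) A)

lemma rho_apply {A : Type u} [CommRing A] [Algebra K A] {W : Over (Spec (CommRingCat.of K))}
    (a : W ⟶ T A) (x : A) : rho a x = a.left.appTop (gamInv (k := K) A x) := rfl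

lemma rho_comp_algebraMap {A : Type u} [CommRing A] [Algebra K A] {W : Over (Spec (CommRingCat.of K))}
    (a : W ⟶ T A) : (rho a).comp (algebraMap K A) = sig W := by
  refine RingHom.ext fun c => ?_
  rw [RingHom.comp_apply, rho_apply, gamInv_algebraMap, appTop_sig]

lemma rho_toT {A : Type u} [CommRing A] [Algebra K A] {W : Over (Spec (CommRingCat.of K))}
    (φ : A →+* Γ(W.left, ⊤)) (hφ : φ.comp (algebraMap K A) = sig W) : rho (toT φ hφ) = φ :=
  RingHom.ext fun x => toT_appTop φ hφ x

lemma toT_rho {A : Type u} [CommRing A] [Algebra K A] {W : Over (Spec (CommRingCat.of K))}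
    (a : W ⟶ T A) : toT (rho a) (rho_comp_algebraMap a) = a :=
  T_hom_ext _ _ fun b => toT_appTop _ _ b

lemma rho_injective {A : Type u} [CommRing A] [Algebra K A] {W : Over (Spec (CommRingCat.of K))}
    (a b : W ⟶ T A) (h : rho a = rho b) : a = b :=
  T_hom_ext _ _ fun x => congrArg (fun f => f x) h

lemma rho_comp {A : Type u} [CommRing A] [Algebra K A] {W W' : Over (Spec (CommRingCat.of K))}
    (ψ : W' ⟶ W) (a : W ⟶ T A) : rho (ψ ≫ a) = ψ.left.appTop.hom.comp (rho a) := by
  refine RingHom.ext fun x => ?_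
  rw [rho_apply, Over.comp_left, Scheme.Hom.comp_appTop]
  rfl

/-- The morphism of test objects attached to an algebra homomorphism. -/
noncomputable def Tmap {A A' : Type u} [CommRing A] [Algebra K A] [CommRing A'] [Algebra K A']
    (θ : A →ₐ[K] A') : T (k := K) A' ⟶ T A :=
  toT ((gamInv (k := K) A').comp θ.toRingHom) (by
    refine RingHom.ext fun c => ?_
    simp only [RingHom.comp_apply, AlgHom.toRingHom_eq_coe, RingHom.coe_coe, AlgHom.commutes]
    exact gamInv_algebraMap A' c)

lemma rho_comp_Tmap {A A' : Type u} [CommRing A] [Algebra K A] [CommRing A'] [Algebra K A']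
    {W : Over (Spec (CommRingCat.of K))} (a : W ⟶ T A') (θ : A →ₐ[K] A') :
    rho (a ≫ Tmap θ) = (rho a).comp θ.toRingHom := by
  rw [rho_comp, Tmap, rho_toT]
  rfl

lemma Tmap_left {A A' : Type u} [CommRing A] [Algebra K A] [CommRing A'] [Algebra K A']
    (θ : A →ₐ[K] A') : (Tmap θ).left = Spec.map (CommRingCat.ofHom θ.toRingHom) := by
  show (Spec (CommRingCat.of A')).toSpecΓ ≫ Spec.map (CommRingCat.ofHom θ.toRingHom ≫
    (Scheme.ΓSpecIso (CommRingCat.of A')).inv) = Spec.map (CommRingCat.ofHom θ.toRingHom)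
  rw [Spec.map_comp]
  exact toSpecΓ_SpecMap_ΓSpecIso_inv_assoc _ _

end General

section AffPts

variable (H : Over (Spec (CommRingCat.of K)))

/-- the `K`-algebra structure on global sections. -/
@[reducible] noncomputable def algH : Algebra K Γ(H.left, ⊤) := (sig H).toAlgebra

/-- The comparison `H ⟶ Spec Γ(H)`. -/
noncomputable def epsH : @Quiver.Hom (Over (Spec (CommRingCat.of K))) _ H
    (@T K _ Γ(H.left, ⊤) _ (algH H)) :=
  letI := algH H
  toT (RingHom.id _) (by rfl)

lemma epsH_left : (epsH H).left = H.left.toSpecΓ := by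
  letI := algH H
  show H.left.toSpecΓ ≫ Spec.map (CommRingCat.ofHom (RingHom.id Γ(H.left, ⊤))) = H.left.toSpecΓ
  have : CommRingCat.ofHom (RingHom.id Γ(H.left, ⊤)) = 𝟙 Γ(H.left, ⊤) := rfl
  rw [this]
  erw [Spec.map_id]
  exact Category.comp_id _

instance [IsAffine H.left] : IsIso (epsH H) := by
  letI := algH H
  have h1 : IsIso (epsH H).left := by rw [epsH_left]; exact IsAffine.affine
  haveI : IsIso ((Over.forget _).map (epsH H)) := h1
  exact isIso_of_reflects_iso _ (Over.forget _)

lemma epsH_appTop (b : Γ(H.left, ⊤)) :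
    (epsH H).left.appTop (@gamInv K _ Γ(H.left, ⊤) _ (algH H) b) = b := by
  letI := algH H
  exact toT_appTop (RingHom.id _) _ b

variable {H}

/-- The point of an affine `H` attached to a ring homomorphism out of its global sections. -/
noncomputable def mkPt [IsAffine H.left] {W : Over (Spec (CommRingCat.of K))}
    (φ : Γ(H.left, ⊤) →+* Γ(W.left, ⊤)) (hφ : φ.comp (sig H) = sig W) : W ⟶ H :=
  letI := algH H
  toT φ hφ ≫ inv (epsH H)

lemma mkPt_appTop [IsAffine H.left] {W : Over (Spec (CommRingCat.of K))}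
    (φ : Γ(H.left, ⊤) →+* Γ(W.left, ⊤)) (hφ : φ.comp (sig H) = sig W) (b : Γ(H.left, ⊤)) :
    (mkPt φ hφ).left.appTop b = φ b := by
  letI := algH H
  have h1 : mkPt φ hφ ≫ epsH H = toT φ hφ := by
    unfold mkPt; rw [Category.assoc, IsIso.inv_hom_id, Category.comp_id]
  have h2 := congrArg (fun f => f.left.appTop (gamInv (k := K) Γ(H.left, ⊤) b)) h1
  simp only [Over.comp_left, Scheme.Hom.comp_appTop] at h2
  have h3 : (mkPt φ hφ).left.appTop ((epsH H).left.appTop (gamInv (k := K) Γ(H.left, ⊤) b)) =
      (toT φ hφ).left.appTop (gamInv (k := K) Γ(H.left, ⊤) b) := h2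
  rw [epsH_appTop, toT_appTop] at h3
  exact h3

lemma pt_ext_H [IsAffine H.left] {W : Over (Spec (CommRingCat.of K))} (h h' : W ⟶ H)
    (e : ∀ b, h.left.appTop b = h'.left.appTop b) : h = h' := by
  apply Over.OverMorphism.ext
  apply ext_of_isAffine
  apply CommRingCat.hom_ext
  exact RingHom.ext e

end AffPts

section Closed

variable {A : Type u} [CommRing A] [Algebra K A]

lemma surj_of_finite_mono {H G₀ : Over (Spec (CommRingCat.of K))} (β : G₀ ≅ T (k := K) A) (i : H ⟶ G₀)
    [Mono i] [IsFinite H.hom] :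
    IsAffine H.left ∧ Function.Surjective (rho (i ≫ β.hom)) := by
  set j : H ⟶ T (k := K) A := i ≫ β.hom with hj
  have hmono : Mono j.left := inferInstance
  have hTleft : (T (k := K) A).left = Spec (CommRingCat.of A) := rfl
  have hsep : IsSeparated (T (k := K) A).hom := by
    unfold T; dsimp; infer_instance
  have hfin : IsFinite (j.left ≫ (T (k := K) A).hom) := by
    rw [Over.w j]; infer_instance
  have hfin' : IsFinite j.left := IsFinite.of_comp j.left (T (k := K) A).hom
  have hcl : IsClosedImmersion j.left := (IsClosedImmersion.iff_isFinite_and_mono j.left).mpr ⟨hfin', hmono⟩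
  have haff : IsAffine (T (k := K) A).left := by rw [hTleft]; infer_instance
  obtain ⟨h1, h2⟩ := IsClosedImmersion.isAffine_surjective_of_isAffine j.left
  refine ⟨h1, ?_⟩
  intro b
  obtain ⟨g, hg⟩ := h2 b
  refine ⟨gam A g, ?_⟩
  rw [rho_apply, gamInv_gam]
  exact hg

end Closed

end Groth.Agent.Lib.Helper18.FinSub
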