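import Groth.Agent.Lib.Helper18.FinSub.Kernel
import Groth.Agent.Lib.Helper18.FinSub.AddPoly
import Groth.Agent.Lib.Helper4.GaPts

/-!
# Finite subgroup schemes of `𝔾_a` over a field are kernels of additive polynomials (helper18)
-/

set_option autoImplicit false
set_option linter.unusedSectionVars false
set_option linter.style.haveILetI false
set_option linter.unusedVariables false

namespace Groth.Agent.Lib.Helper18.FinSub

open CategoryTheory MonoidalCategory CartesianMonoidalCategory MonObj GrpObj AlgebraicGeometry Limits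
open Polynomial
open Groth.Agent.Lib.Helper25.GaPts

universe u

section MonHomPts

variable {C : Type*} [Category C] [CartesianMonoidalCategory C] {M N : C} [MonObj M] [MonObj N]

lemma isMonHom_of_points (f : M ⟶ N)
    (hmul : ∀ (X : C) (a b : X ⟶ M), (a * b) ≫ f = (a ≫ f) * (b ≫ f))
    (hone : (1 : 𝟙_ C ⟶ M) ≫ f = 1) : IsMonHom f where
  one_hom := by
    rw [MonObj.one_eq_one M, MonObj.one_eq_one N]; exact hone
  mul_hom := by
    rw [MonObj.mul_eq_mul M, hmul, MonObj.mul_eq_mul N, MonObj.comp_mul, tensorHom_fst, tensorHom_snd]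

end MonHomPts

section Beta

variable {K : Type u} [CommRing K]

/-- `𝔾_a ≅ Spec K[X]` over `Spec K`. -/
noncomputable def betaA : Red.Ga (Spec (CommRingCat.of K)) ≅ T (k := K) K[X] where
  hom := toT (eval₂RingHom (sig _) (Red.gaFn (𝟙 (Red.Ga (Spec (CommRingCat.of K))))))
    (ev₁_comp_algebraMap _ _)
  inv := ptT K[X] X
  hom_inv_id := by
    rw [toT_comp_ptT]
    have : (eval₂RingHom (sig (Red.Ga (Spec (CommRingCat.of K))))
        (Red.gaFn (𝟙 (Red.Ga (Spec (CommRingCat.of K)))))) X =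
        Red.gaFn (𝟙 (Red.Ga (Spec (CommRingCat.of K)))) := by simp
    rw [this]
    exact pt_gaFn _
  inv_hom_id := by
    apply rho_injective
    rw [rho_comp, rho_toT, comp_eval₂RingHom, appTop_comp_sig]
    have h1 : (ptT (k := K) K[X] X).left.appTop.hom (Red.gaFn (𝟙 (Red.Ga (Spec (CommRingCat.of K))))) =
        gamInv (k := K) K[X] X := by
      have := gaFn_comp (ptT (k := K) K[X] X) (𝟙 (Red.Ga (Spec (CommRingCat.of K))))
      rw [Category.comp_id] at this
      rw [← this]
      exact gaFn_pt _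
    rw [h1]
    apply Polynomial.ringHom_ext
    · intro a
      rw [coe_eval₂RingHom, eval₂_C, rho_apply]
      have : (C a : K[X]) = algebraMap K K[X] a := rfl
      rw [this, gamInv_algebraMap]
      simp
    · rw [coe_eval₂RingHom, eval₂_X, rho_apply]
      simp

lemma rho_betaA {W : Over (Spec (CommRingCat.of K))} (a : W ⟶ Red.Ga (Spec (CommRingCat.of K))) :
    rho (a ≫ (betaA (K := K)).hom) = eval₂RingHom (sig W) (Red.gaFn a) := by
  unfold betaA
  simp only
  rw [rho_comp, rho_toT, comp_eval₂RingHom, appTop_comp_sig]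
  have := gaFn_comp a (𝟙 (Red.Ga (Spec (CommRingCat.of K))))
  rw [Category.comp_id] at this
  rw [this]

end Beta

section Main

variable {K : Type u} [Field K]

variable {H : Over (Spec (CommRingCat.of K))} [GrpObj H]
  (i : H ⟶ Red.Ga (Spec (CommRingCat.of K))) [IsMonHom i] [Mono i] [IsFinite H.hom]

include i in
lemma ga_affine : IsAffine H.left := (surj_of_finite_mono (betaA (K := K)) i).1

lemma ga_surj : Function.Surjective (eval₂RingHom (sig H) (Red.gaFn i)) := by
  have := (surj_of_finite_mono (betaA (K := K)) i).2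
  rwa [rho_betaA] at this

lemma finite_of_isFinite (H : Over (Spec (CommRingCat.of K))) [IsFinite H.hom] :
    @Module.Finite K Γ(H.left, ⊤) _ _ (algH H).toModule := by
  have h1 : (H.hom.appTop).hom.Finite :=
    ((HasAffineProperty.iff_of_isAffine (P := @IsFinite)).mp (inferInstance : IsFinite H.hom)).2
  have h2 : ((Scheme.ΓSpecIso (CommRingCat.of K)).inv.hom).Finite :=
    RingHom.Finite.of_surjective _
      (ConcreteCategory.bijective_of_isIso (Scheme.ΓSpecIso (CommRingCat.of K)).inv).2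
  have h3 : (sig H).Finite := RingHom.Finite.comp h1 h2
  exact h3

lemma nontrivial_of_grpObj (H : Over (Spec (CommRingCat.of K))) [GrpObj H] :
    Nontrivial Γ(H.left, ⊤) := by
  let e : Γ(H.left, ⊤) →+* K :=
    ((Scheme.ΓSpecIso (CommRingCat.of K)).hom.hom).comp (η[H].left.appTop.hom)
  exact e.domain_nontrivial


/-- The minimal polynomial of the coordinate of `H`. -/
noncomputable def gaPoly : K[X] := @minpoly K Γ(H.left, ⊤) _ _ (algH H) (Red.gaFn i)

lemma gaPoly_isIntegral : @IsIntegral K Γ(H.left, ⊤) _ _ (algH H) (Red.gaFn i) := by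
  letI := algH H
  haveI := finite_of_isFinite H
  exact Algebra.IsIntegral.isIntegral _

lemma gaPoly_monic : (gaPoly i).Monic := by
  letI := algH H
  exact minpoly.monic (gaPoly_isIntegral i)

lemma gaPoly_natDegree : 1 ≤ (gaPoly i).natDegree := by
  letI := algH H
  haveI := nontrivial_of_grpObj H
  exact minpoly.natDegree_pos (gaPoly_isIntegral i)

lemma gaPoly_ker : RingHom.ker (eval₂RingHom (sig H) (Red.gaFn i)) = Ideal.span {gaPoly i} := by
  letI := algH H
  have h := minpoly.ker_aeval_eq_span_minpoly (A := K) (x := Red.gaFn i)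
  have h2 : RingHom.ker (eval₂RingHom (sig H) (Red.gaFn i)) =
      RingHom.ker (Polynomial.aeval (R := K) (Red.gaFn i)) := by
    ext p
    simp only [RingHom.mem_ker, coe_eval₂RingHom]
    rfl
  rw [h2, h]
  rfl

/-- A point of `𝔾_a` lies in `H` iff it is a root of `gaPoly`. -/
lemma ga_factor_iff {W : Over (Spec (CommRingCat.of K))} (a : W ⟶ Red.Ga (Spec (CommRingCat.of K))) :
    (∃ h : W ⟶ H, h ≫ i = a) ↔ eval₂ (sig W) (Red.gaFn a) (gaPoly i) = 0 := by
  haveI := ga_affine i
  have hs : Function.Surjective (rho (i ≫ (betaA (K := K)).hom)) :=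
    (surj_of_finite_mono (betaA (K := K)) i).2
  rw [factor_iff (betaA (K := K)) i hs a, rho_betaA, rho_betaA, gaPoly_ker,
    Ideal.span_singleton_le_iff_mem, RingHom.mem_ker, coe_eval₂RingHom]

lemma ga_factor_mul {W : Over (Spec (CommRingCat.of K))} (a b : W ⟶ Red.Ga (Spec (CommRingCat.of K)))
    (ha : ∃ h : W ⟶ H, h ≫ i = a) (hb : ∃ h : W ⟶ H, h ≫ i = b) : ∃ h : W ⟶ H, h ≫ i = a * b := by
  obtain ⟨h, rfl⟩ := ha
  obtain ⟨h', rfl⟩ := hb
  exact ⟨h * h', MonObj.mul_comp h h' i⟩

lemma eval₂_sig_gamInv {R : Type u} [CommRing R] [Algebra K R] (r : R) (p : K[X]) :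
    eval₂ (sig (T (k := K) R)) (gamInv (k := K) R r) p = gamInv (k := K) R (aeval r p) := by
  rw [aeval_def, Polynomial.hom_eval₂]
  congr 1
  refine RingHom.ext fun c => ?_
  rw [RingHom.comp_apply, gamInv_algebraMap]

lemma gamInv_injective (R : Type u) [CommRing R] [Algebra K R] :
    Function.Injective (gamInv (k := K) R) := by
  intro x y h
  have := congrArg (gam (k := K) R) h
  rwa [gam_gamInv, gam_gamInv] at this

lemma gaPoly_roots_add (R : Type u) [CommRing R] [Algebra K R] (r₁ r₂ : R)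
    (h1 : aeval r₁ (gaPoly i) = 0) (h2 : aeval r₂ (gaPoly i) = 0) : aeval (r₁ + r₂) (gaPoly i) = 0 := by
  have e1 : ∃ h : T (k := K) R ⟶ H, h ≫ i = ptT R r₁ := by
    rw [ga_factor_iff]
    unfold ptT
    rw [gaFn_pt, eval₂_sig_gamInv, h1, map_zero]
  have e2 : ∃ h : T (k := K) R ⟶ H, h ≫ i = ptT R r₂ := by
    rw [ga_factor_iff]
    unfold ptT
    rw [gaFn_pt, eval₂_sig_gamInv, h2, map_zero]
  have e3 := ga_factor_mul i _ _ e1 e2
  rw [ga_factor_iff, Groth.Agent.Lib.Helper4.GaPts.gaFn_mul] at e3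
  unfold ptT at e3
  rw [gaFn_pt, gaFn_pt, ← map_add, eval₂_sig_gamInv] at e3
  exact gamInv_injective R (by rw [e3, map_zero])

lemma gaPoly_coeff_zero : (gaPoly i).coeff 0 = 0 := by
  have e1 : ∃ h : T (k := K) K ⟶ H, h ≫ i = 1 := ⟨1, MonObj.one_comp i⟩
  rw [ga_factor_iff, Groth.Agent.Lib.Helper4.GaPts.gaFn_one, eval₂_at_zero] at e1
  have h2 : sig (T (k := K) K) ((gaPoly i).coeff 0) = gamInv (k := K) K ((gaPoly i).coeff 0) := by
    rw [← gamInv_algebraMap]; rfl
  rw [h2] at e1
  exact gamInv_injective K (by rw [e1, map_zero])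

lemma gaPoly_isAdd : IsAdd (gaPoly i) :=
  isAdd_of_roots_closed (gaPoly i) (gaPoly_monic i) (gaPoly_natDegree i) (gaPoly_coeff_zero i)
    (fun R _ _ r₁ r₂ h1 h2 => gaPoly_roots_add i R r₁ r₂ h1 h2)

/-- The endomorphism `x ↦ f(x)` of `𝔾_a`. -/
noncomputable def gaPhi : Red.Ga (Spec (CommRingCat.of K)) ⟶ Red.Ga (Spec (CommRingCat.of K)) :=
  phi0 (betaA (K := K)) (aeval (gaPoly i))

lemma gaFn_gaPhi {W : Over (Spec (CommRingCat.of K))} (a : W ⟶ Red.Ga (Spec (CommRingCat.of K))) :
    Red.gaFn (a ≫ gaPhi i) = eval₂ (sig W) (Red.gaFn a) (gaPoly i) := by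
  have h := rho_phi0 (betaA (K := K)) (aeval (gaPoly i)) a
  rw [rho_betaA, rho_betaA] at h
  have h2 := congrArg (fun φ => φ X) h
  simp only [coe_eval₂RingHom, eval₂_X, RingHom.comp_apply] at h2
  rw [show gaPhi i = phi0 (betaA (K := K)) (aeval (gaPoly i)) from rfl, h2]
  simp

instance gaPhi_isMonHom : IsMonHom (gaPhi i) := by
  apply isMonHom_of_points
  · intro W a b
    apply gaFn_injective
    rw [gaFn_gaPhi, Groth.Agent.Lib.Helper4.GaPts.gaFn_mul, Groth.Agent.Lib.Helper4.GaPts.gaFn_mul,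
      gaFn_gaPhi, gaFn_gaPhi]
    exact eval₂_add_of_isAdd (gaPoly_isAdd i) _ _ _
  · apply gaFn_injective
    rw [gaFn_gaPhi, Groth.Agent.Lib.Helper4.GaPts.gaFn_one,
      eval₂_at_zero, gaPoly_coeff_zero, map_zero]

lemma gaPhi_isKernel : AlgGrp.IsKernel i (gaPhi i) := by
  apply isKernel_of_factor_iff
  intro W a
  rw [ga_factor_iff, ← gaFn_gaPhi, ← Hom.one_def]
  constructor
  · intro h
    apply gaFn_injective
    rw [h, Groth.Agent.Lib.Helper4.GaPts.gaFn_one]
  · intro h
    rw [h, Groth.Agent.Lib.Helper4.GaPts.gaFn_one]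

lemma gaPhi_flat : Flat (gaPhi i).left := by
  apply flat_phi0
  exact flat_of_injective_of_dedekind _ (aeval_self_injective (gaPoly i) (gaPoly_natDegree i))

lemma gaPhi_surjective : Surjective (gaPhi i).left := by
  apply surjective_phi0
  exact RingHom.IsIntegral.comap_surjective
    (aeval_self_isIntegral (gaPoly i) (gaPoly_monic i) (gaPoly_natDegree i))
    (aeval_self_injective (gaPoly i) (gaPoly_natDegree i))

theorem main_Ga : ∃ φ : Red.Ga (Spec (CommRingCat.of K)) ⟶ Red.Ga (Spec (CommRingCat.of K)),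
    IsMonHom φ ∧ AlgGrp.IsKernel i φ ∧ Flat φ.left ∧ Surjective φ.left :=
  ⟨gaPhi i, inferInstance, gaPhi_isKernel i, gaPhi_flat i, gaPhi_surjective i⟩

end Main

end Groth.Agent.Lib.Helper18.FinSub
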