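import Mathlib
import Groth.Agent.Lib.Helper18.FinSub.AddPoly
import Groth.Agent.Lib.Helper25.GmEnd

/-!
# Polynomials whose roots are closed under multiplication (helper18)
-/

open Polynomial

namespace Groth.Agent.Lib.Helper18.FinSub

universe u

lemma isUnit_of_root {K : Type*} [Field K] {R : Type*} [CommRing R] [Algebra K R] (g : K[X])
    (h0 : g.coeff 0 ≠ 0) (r : R) (hr : aeval r g = 0) : IsUnit r := by
  have h1 := congrArg (aeval r) (divX_mul_X_add g)
  rw [hr, map_add, map_mul, aeval_X, aeval_C] at h1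
  have hu : IsUnit (algebraMap K R (g.coeff 0)) := (IsUnit.mk0 _ h0).map _
  obtain ⟨c, hc⟩ := hu
  refine IsUnit.of_mul_eq_one (-(↑c⁻¹ : R) * aeval r (divX g)) ?_
  have : aeval r (divX g) * r = -(c : R) := by rw [hc]; exact eq_neg_of_add_eq_zero_left h1
  calc r * (-(↑c⁻¹ : R) * aeval r (divX g)) = -(↑c⁻¹ : R) * (aeval r (divX g) * r) := by ring
    _ = 1 := by rw [this]; simp

theorem eq_X_pow_sub_one_of_roots_closed {K : Type u} [Field K] (g : K[X]) (hm : g.Monic)
    (hn : 1 ≤ g.natDegree) (h0 : g.coeff 0 ≠ 0)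
    (hmul : ∀ (R : Type u) [CommRing R] [Algebra K R] (r₁ r₂ : R),
      aeval r₁ g = 0 → aeval r₂ g = 0 → aeval (r₁ * r₂) g = 0) :
    g = X ^ g.natDegree - 1 := by
  set n := g.natDegree with hnn
  let B₀ := AdjoinRoot g
  let xB : B₀ := AdjoinRoot.root g
  haveI : Nontrivial B₀ := AdjoinRoot.nontrivial g (by
    intro h
    have h' : g.natDegree = 0 := natDegree_eq_of_degree_eq_some h
    omega)
  have hxB : aeval xB g = 0 := by rw [AdjoinRoot.aeval_eq]; exact AdjoinRoot.mk_self
  have hxu : IsUnit xB := isUnit_of_root g h0 xB hxB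
  set gh : B₀[X] := g.map (algebraMap K B₀) with hgh
  have hghm : gh.Monic := hm.map _
  have hghn : gh.natDegree = n := hm.natDegree_map _
  let R := AdjoinRoot gh
  have h1 : aeval (AdjoinRoot.root gh) g = 0 := by
    rw [aeval_def, IsScalarTower.algebraMap_eq K B₀ R, ← eval₂_map]
    exact AdjoinRoot.eval₂_root gh
  have h2 : aeval (algebraMap B₀ R xB) g = 0 := by
    rw [aeval_algebraMap_apply, hxB, map_zero]
  have h3 := hmul R _ _ h2 h1
  set h : B₀[X] := gh.comp (C xB * X) with hh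
  have h4 : AdjoinRoot.mk gh h = 0 := by
    rw [hh, ← AdjoinRoot.aeval_eq, aeval_def, eval₂_comp]
    rw [aeval_def, IsScalarTower.algebraMap_eq K B₀ R, ← eval₂_map] at h3
    rw [← h3]
    congr 1
    simp [eval₂_mul, AdjoinRoot.algebraMap_eq]
    rfl
  obtain ⟨q, hq⟩ : gh ∣ h := AdjoinRoot.mk_eq_zero.mp h4
  have hcoeff : ∀ k, h.coeff k = gh.coeff k * xB ^ k := fun k => comp_C_mul_X_coeff
  have hhn : h.coeff n = xB ^ n := by
    rw [hcoeff, ← hghn, hghm.coeff_natDegree, one_mul]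
  have hq0 : q ≠ 0 := by
    rintro rfl
    rw [mul_zero] at hq
    rw [hq, coeff_zero] at hhn
    exact (hxu.pow n).ne_zero hhn.symm
  have hdeg : h.natDegree ≤ n := by
    refine le_trans natDegree_comp_le ?_
    rw [hghn]
    calc n * (C xB * X).natDegree ≤ n * 1 := by
          gcongr
          exact (natDegree_C_mul_le _ _).trans natDegree_X_le
      _ = n := mul_one n
  have hqdeg : q.natDegree = 0 := by
    have := hghm.natDegree_mul' hq0
    rw [← hq, hghn] at this
    omega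
  obtain ⟨c, hc⟩ : ∃ c, q = C c := ⟨_, eq_C_of_natDegree_eq_zero hqdeg⟩
  have hck : ∀ k, gh.coeff k * xB ^ k = c * gh.coeff k := by
    intro k
    rw [← hcoeff, hq, hc, mul_comm, coeff_C_mul]
  have hcn : c = xB ^ n := by
    have := hck n
    rw [← hghn, hghm.coeff_natDegree, one_mul, mul_one, hghn] at this
    exact this.symm
  -- the key consequence for nonzero coefficients
  have key : ∀ k, k ≤ n → g.coeff k ≠ 0 → xB ^ (n - k) = 1 := by
    intro k hk hgk
    have h5 := hck k
    rw [hgh, coeff_map, hcn] at h5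
    have hu : IsUnit (algebraMap K B₀ (g.coeff k)) := (IsUnit.mk0 _ hgk).map _
    have h6 : xB ^ k = xB ^ n := by
      have := hu.mul_left_cancel (a := algebraMap K B₀ (g.coeff k)) (b := xB ^ k) (c := xB ^ n)
      apply this
      rw [h5, mul_comm]
    have h7 : xB ^ k * xB ^ (n - k) = xB ^ k * 1 := by
      rw [← pow_add, Nat.add_sub_cancel' hk, mul_one, h6]
    exact (hxu.pow k).mul_left_cancel h7
  have hdvd : ∀ m, xB ^ m = 1 → g ∣ X ^ m - 1 := by
    intro m hm1
    rw [← AdjoinRoot.mk_eq_zero, ← AdjoinRoot.aeval_eq]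
    simp [hm1, xB]
  -- g divides X^n - 1
  have h8 : g ∣ X ^ n - 1 := hdvd n (by simpa using key 0 (Nat.zero_le _) h0)
  have hXm : (X ^ n - 1 : K[X]).Monic := by
    have := monic_X_pow_sub_C (1 : K) (n := n) (by omega)
    simpa using this
  have hXd : (X ^ n - 1 : K[X]).natDegree = n := by
    have := natDegree_X_pow_sub_C (R := K) (n := n) (r := 1)
    simpa using this
  exact (eq_of_monic_of_dvd_of_natDegree_le hm hXm h8 (by rw [hXd])).symm


/-! ### the `n`-th power endomorphism of Laurent polynomials -/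

section Theta

open LaurentPolynomial Groth.Agent.Lib.Helper25.GmEnd

variable (K : Type u) [Field K]

/-- The endomorphism `T ↦ T^n` of `K[T;T⁻¹]`. -/
noncomputable def thetaM (n : ℕ) : K[T;T⁻¹] →ₐ[K] K[T;T⁻¹] := evalAlg K (tU K ^ (n : ℤ))

lemma thetaM_T (n : ℕ) (m : ℤ) : thetaM K n (T m) = T (n * m) := by
  unfold thetaM
  rw [evalAlg_T, ← zpow_mul, tU_zpow]

lemma thetaM_toLaurent (n : ℕ) (q : K[X]) :
    thetaM K n (toLaurent q) = toLaurent (aeval (X ^ n : K[X]) q) := by
  unfold thetaM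
  rw [evalAlg_toLaurent, tU_zpow]
  rw [← Polynomial.toLaurentAlg_apply, ← Polynomial.aeval_algHom_apply, Polynomial.toLaurentAlg_apply,
    Polynomial.toLaurent_X_pow]

lemma thetaM_injective (n : ℕ) (hn : 1 ≤ n) : Function.Injective (thetaM K n) := by
  rw [injective_iff_map_eq_zero]
  intro p hp
  obtain ⟨m, q, hq⟩ := exists_T_pow p
  have h1 : thetaM K n (toLaurent q) = 0 := by rw [hq, map_mul, hp, zero_mul]
  rw [thetaM_toLaurent] at h1
  have h2 : aeval (X ^ n : K[X]) q = 0 := by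
    apply Polynomial.toLaurent_injective
    rw [h1, map_zero]
  have h3 : q = 0 := by
    have := aeval_self_injective (X ^ n : K[X]) (by rw [natDegree_X_pow]; exact hn)
    exact this (by rw [h2, map_zero])
  rw [h3, map_zero] at hq
  exact ((isUnit_T (m : ℤ)).mul_left_eq_zero).mp hq.symm

lemma thetaM_isIntegral (n : ℕ) (hn : 1 ≤ n) :
    ((thetaM K n : K[T;T⁻¹] →ₐ[K] K[T;T⁻¹]) : K[T;T⁻¹] →+* K[T;T⁻¹]).IsIntegral := by
  set θ : K[T;T⁻¹] →+* K[T;T⁻¹] := ((thetaM K n : K[T;T⁻¹] →ₐ[K] K[T;T⁻¹]) : K[T;T⁻¹] →+* K[T;T⁻¹]) with hθ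
  have hC : ∀ a : K, θ (LaurentPolynomial.C a) = LaurentPolynomial.C a := fun a => by
    rw [hθ, LaurentPolynomial.C_eq_algebraMap]; exact (thetaM K n).commutes a
  have hT : ∀ m : ℤ, θ.IsIntegralElem (T m) := by
    intro m
    refine ⟨X ^ n - Polynomial.C (T m), monic_X_pow_sub_C _ (by omega), ?_⟩
    rw [eval₂_sub, eval₂_X_pow, Polynomial.eval₂_C, hθ]
    change T m ^ n - thetaM K n (T m) = 0
    rw [thetaM_T, T_pow, sub_self]
  intro p
  induction p using LaurentPolynomial.induction_on' with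
  | add p q hp hq => exact RingHom.IsIntegralElem.add θ hp hq
  | C_mul_T m a =>
    refine RingHom.IsIntegralElem.mul θ ?_ (hT m)
    rw [← hC a]; exact θ.isIntegralElem_map

end Theta

end Groth.Agent.Lib.Helper18.FinSub
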