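import Groth.Agent.Lib.Helper18.FinSub.Kernel
import Groth.Agent.Lib.Helper18.FinSub.MulPoly
import Groth.Agent.Lib.Helper18.FinSub.Ga
import Groth.Agent.Lib.Helper25.GmPts
import Groth.Prelude.Def_GmPts

/-!
# Finite subgroup schemes of `𝔾_m` over a field are the `μ_n` (helper18)
-/

set_option autoImplicit false
set_option linter.unusedSectionVars false
set_option linter.style.haveILetI false
set_option linter.unusedVariables false

namespace Groth.Agent.Lib.Helper18.FinSub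

open CategoryTheory MonoidalCategory CartesianMonoidalCategory MonObj GrpObj AlgebraicGeometry Limits
open Groth.Agent.Lib.Helper25.GaPts Groth.Agent.Lib.Helper25.LaurentUnits Groth.Agent.Lib.Helper25.GmEnd
open scoped LaurentPolynomial

universe u

section Beta

variable {K : Type u} [CommRing K]

/-- the universal unit on `Spec K[T;T⁻¹]`. -/
noncomputable def univU : (Γ((T (k := K) K[T;T⁻¹]).left, ⊤))ˣ :=
  Units.map (gamInv (k := K) K[T;T⁻¹]).toMonoidHom (tU K)

lemma evalSig_comp_algebraMap (W : Over (Spec (CommRingCat.of K))) (v : (Γ(W.left, ⊤))ˣ) :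
    (LaurentPolynomial.eval₂ (sig W) v).comp (algebraMap K K[T;T⁻¹]) = sig W := by
  refine RingHom.ext fun c => ?_
  rw [RingHom.comp_apply, ← LaurentPolynomial.C_eq_algebraMap, LaurentPolynomial.eval₂_C]

lemma eval₂_univU :
    LaurentPolynomial.eval₂ (sig (T (k := K) K[T;T⁻¹])) (univU (K := K)) = gamInv (k := K) K[T;T⁻¹] := by
  apply ringHom_ext_laurent
  · intro r
    rw [LaurentPolynomial.eval₂_C, LaurentPolynomial.C_eq_algebraMap, gamInv_algebraMap]
  · rw [LaurentPolynomial.eval₂_T, zpow_one]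
    rfl

/-- `𝔾_m ≅ Spec K[T;T⁻¹]` over `Spec K`. -/
noncomputable def betaM : Red.Gm (Spec (CommRingCat.of K)) ≅ T (k := K) K[T;T⁻¹] where
  hom := toT (LaurentPolynomial.eval₂ (sig _) (GmPts.unitOfPt (𝟙 (Red.Gm (Spec (CommRingCat.of K))))))
    (evalSig_comp_algebraMap _ _)
  inv := GmPts.ptOfUnit (univU (K := K))
  hom_inv_id := by
    rw [GmPts.ptOfUnit_comp]
    have : Units.map (toT (LaurentPolynomial.eval₂ (sig _)
        (GmPts.unitOfPt (𝟙 (Red.Gm (Spec (CommRingCat.of K))))))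
        (evalSig_comp_algebraMap _ _)).left.appTop.hom.toMonoidHom (univU (K := K)) =
        GmPts.unitOfPt (𝟙 (Red.Gm (Spec (CommRingCat.of K)))) := by
      apply Units.ext
      change (toT _ _).left.appTop (gamInv (k := K) K[T;T⁻¹] (LaurentPolynomial.T 1)) = _
      rw [toT_appTop, LaurentPolynomial.eval₂_T, zpow_one]
    rw [this]
    exact GmPts.ptOfUnit_unitOfPt _
  inv_hom_id := by
    apply rho_injective
    rw [rho_comp, rho_toT, comp_eval₂, appTop_comp_sig]
    have h1 : Units.map (GmPts.ptOfUnit (univU (K := K))).left.appTop.hom.toMonoidHom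
        (GmPts.unitOfPt (𝟙 (Red.Gm (Spec (CommRingCat.of K))))) = univU (K := K) := by
      rw [← GmPts.unitOfPt_comp, Category.comp_id, GmPts.unitOfPt_ptOfUnit]
    rw [h1, eval₂_univU]
    refine RingHom.ext fun x => ?_
    rw [rho_apply]
    simp

lemma rho_betaM {W : Over (Spec (CommRingCat.of K))} (a : W ⟶ Red.Gm (Spec (CommRingCat.of K))) :
    rho (a ≫ (betaM (K := K)).hom) = LaurentPolynomial.eval₂ (sig W) (GmPts.unitOfPt a) := by
  unfold betaM
  simp only
  rw [rho_comp, rho_toT, comp_eval₂, appTop_comp_sig, ← GmPts.unitOfPt_comp, Category.comp_id]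

end Beta


section Main

open Polynomial

variable {K : Type u} [Field K]

variable {H : Over (Spec (CommRingCat.of K))} [GrpObj H]
  (i : H ⟶ Red.Gm (Spec (CommRingCat.of K))) [IsMonHom i] [Mono i] [IsFinite H.hom]

include i in
lemma gm_affine : IsAffine H.left := (surj_of_finite_mono (betaM (K := K)) i).1

/-- The minimal polynomial of the coordinate of `H ⊆ 𝔾_m`. -/
noncomputable def gmPoly : K[X] := @minpoly K Γ(H.left, ⊤) _ _ (algH H) (Red.gmFn i)

lemma gmPoly_isIntegral : @IsIntegral K Γ(H.left, ⊤) _ _ (algH H) (Red.gmFn i) := by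
  letI := algH H
  haveI := finite_of_isFinite H
  exact Algebra.IsIntegral.isIntegral _

lemma gmPoly_monic : (gmPoly i).Monic := by
  letI := algH H
  exact minpoly.monic (gmPoly_isIntegral i)

lemma gmPoly_natDegree : 1 ≤ (gmPoly i).natDegree := by
  letI := algH H
  haveI := nontrivial_of_grpObj H
  exact minpoly.natDegree_pos (gmPoly_isIntegral i)

lemma gmPoly_eval : Polynomial.eval₂ (sig H) (Red.gmFn i) (gmPoly i) = 0 := by
  letI := algH H
  exact minpoly.aeval K (Red.gmFn i)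

lemma gmPoly_dvd (q : K[X]) (hq : Polynomial.eval₂ (sig H) (Red.gmFn i) q = 0) : gmPoly i ∣ q := by
  letI := algH H
  exact minpoly.dvd K (Red.gmFn i) hq

lemma gmPoly_coeff_zero_ne : (gmPoly i).coeff 0 ≠ 0 := by
  intro h0
  obtain ⟨g₁, hg₁⟩ := Polynomial.X_dvd_iff.mpr h0
  have h1 := gmPoly_eval i
  rw [hg₁, eval₂_mul, eval₂_X] at h1
  have h2 : Polynomial.eval₂ (sig H) (Red.gmFn i) g₁ = 0 :=
    ((GmPts.isUnit_gmFn i).mul_right_eq_zero).mp h1
  have h3 := gmPoly_dvd i g₁ h2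
  have hne : g₁ ≠ 0 := by
    rintro rfl
    rw [mul_zero] at hg₁
    exact (gmPoly_monic i).ne_zero hg₁
  have h4 := Polynomial.natDegree_le_of_dvd h3 hne
  rw [hg₁, natDegree_X_mul hne] at h4
  omega

lemma gm_ker_le_iff {W : Over (Spec (CommRingCat.of K))} (v : (Γ(W.left, ⊤))ˣ) :
    RingHom.ker (LaurentPolynomial.eval₂ (sig H) (GmPts.unitOfPt i)) ≤
        RingHom.ker (LaurentPolynomial.eval₂ (sig W) v) ↔
      Polynomial.eval₂ (sig W) (v : Γ(W.left, ⊤)) (gmPoly i) = 0 := by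
  constructor
  · intro hle
    have h1 : Polynomial.toLaurent (gmPoly i) ∈
        RingHom.ker (LaurentPolynomial.eval₂ (sig H) (GmPts.unitOfPt i)) := by
      rw [RingHom.mem_ker, LaurentPolynomial.eval₂_toLaurent]
      exact gmPoly_eval i
    have h2 := hle h1
    rwa [RingHom.mem_ker, LaurentPolynomial.eval₂_toLaurent] at h2
  · intro hv p hp
    rw [RingHom.mem_ker] at hp ⊢
    obtain ⟨m, q, hq⟩ := LaurentPolynomial.exists_T_pow p
    have h1 : Polynomial.eval₂ (sig H) (Red.gmFn i) q = 0 := by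
      have := congrArg (LaurentPolynomial.eval₂ (sig H) (GmPts.unitOfPt i)) hq
      rw [LaurentPolynomial.eval₂_toLaurent, map_mul, hp, zero_mul] at this
      exact this
    obtain ⟨q', rfl⟩ := gmPoly_dvd i q h1
    have h2 := congrArg (LaurentPolynomial.eval₂ (sig W) v) hq
    rw [LaurentPolynomial.eval₂_toLaurent, eval₂_mul, hv, zero_mul, map_mul] at h2
    have hu : IsUnit (LaurentPolynomial.eval₂ (sig W) v (LaurentPolynomial.T (m : ℤ))) :=
      (LaurentPolynomial.isUnit_T _).map _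
    exact (hu.mul_left_eq_zero).mp h2.symm

/-- A point of `𝔾_m` lies in `H` iff it is a root of `gmPoly`. -/
lemma gm_factor_iff {W : Over (Spec (CommRingCat.of K))} (a : W ⟶ Red.Gm (Spec (CommRingCat.of K))) :
    (∃ h : W ⟶ H, h ≫ i = a) ↔ Polynomial.eval₂ (sig W) (Red.gmFn a) (gmPoly i) = 0 := by
  haveI := gm_affine i
  have hs : Function.Surjective (rho (i ≫ (betaM (K := K)).hom)) :=
    (surj_of_finite_mono (betaM (K := K)) i).2
  rw [factor_iff (betaM (K := K)) i hs a, rho_betaM, rho_betaM, gm_ker_le_iff]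
  rfl

lemma gm_factor_mul {W : Over (Spec (CommRingCat.of K))} (a b : W ⟶ Red.Gm (Spec (CommRingCat.of K)))
    (ha : ∃ h : W ⟶ H, h ≫ i = a) (hb : ∃ h : W ⟶ H, h ≫ i = b) : ∃ h : W ⟶ H, h ≫ i = a * b := by
  obtain ⟨h, rfl⟩ := ha
  obtain ⟨h', rfl⟩ := hb
  exact ⟨h * h', MonObj.mul_comp h h' i⟩

lemma gmPoly_roots_mul (R : Type u) [CommRing R] [Algebra K R] (r₁ r₂ : R)
    (h1 : aeval r₁ (gmPoly i) = 0) (h2 : aeval r₂ (gmPoly i) = 0) : aeval (r₁ * r₂) (gmPoly i) = 0 := by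
  obtain ⟨u₁, rfl⟩ := isUnit_of_root (gmPoly i) (gmPoly_coeff_zero_ne i) r₁ h1
  obtain ⟨u₂, rfl⟩ := isUnit_of_root (gmPoly i) (gmPoly_coeff_zero_ne i) r₂ h2
  let a₁ : T (k := K) R ⟶ Red.Gm (Spec (CommRingCat.of K)) :=
    GmPts.ptOfUnit (Units.map (gamInv (k := K) R).toMonoidHom u₁)
  let a₂ : T (k := K) R ⟶ Red.Gm (Spec (CommRingCat.of K)) :=
    GmPts.ptOfUnit (Units.map (gamInv (k := K) R).toMonoidHom u₂)
  have ha₁ : Red.gmFn a₁ = gamInv (k := K) R (u₁ : R) := GmPts.gmFn_ptOfUnit _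
  have ha₂ : Red.gmFn a₂ = gamInv (k := K) R (u₂ : R) := GmPts.gmFn_ptOfUnit _
  have e1 : ∃ h : T (k := K) R ⟶ H, h ≫ i = a₁ := by
    rw [gm_factor_iff, ha₁, eval₂_sig_gamInv, h1, map_zero]
  have e2 : ∃ h : T (k := K) R ⟶ H, h ≫ i = a₂ := by
    rw [gm_factor_iff, ha₂, eval₂_sig_gamInv, h2, map_zero]
  have e3 := gm_factor_mul i _ _ e1 e2
  rw [gm_factor_iff, GmPts.gmFn_mul, ha₁, ha₂, ← map_mul, eval₂_sig_gamInv] at e3
  exact gamInv_injective R (by rw [e3, map_zero])

lemma gmPoly_eq : gmPoly i = X ^ (gmPoly i).natDegree - 1 :=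
  eq_X_pow_sub_one_of_roots_closed (gmPoly i) (gmPoly_monic i) (gmPoly_natDegree i)
    (gmPoly_coeff_zero_ne i) (fun R _ _ r₁ r₂ h1 h2 => gmPoly_roots_mul i R r₁ r₂ h1 h2)

/-- The endomorphism `t ↦ t^n` of `𝔾_m`. -/
noncomputable def gmPhi : Red.Gm (Spec (CommRingCat.of K)) ⟶ Red.Gm (Spec (CommRingCat.of K)) :=
  phi0 (betaM (K := K)) (thetaM K (gmPoly i).natDegree)

lemma gmFn_gmPhi {W : Over (Spec (CommRingCat.of K))} (a : W ⟶ Red.Gm (Spec (CommRingCat.of K))) :
    Red.gmFn (a ≫ gmPhi i) = (Red.gmFn a) ^ (gmPoly i).natDegree := by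
  have h := rho_phi0 (betaM (K := K)) (thetaM K (gmPoly i).natDegree) a
  rw [rho_betaM, rho_betaM] at h
  have h2 := congrArg (fun φ => φ (LaurentPolynomial.T 1)) h
  simp only [RingHom.comp_apply] at h2
  rw [LaurentPolynomial.eval₂_T, zpow_one] at h2
  rw [show gmPhi i = phi0 (betaM (K := K)) (thetaM K (gmPoly i).natDegree) from rfl]
  have h3 : Red.gmFn (a ≫ phi0 (betaM (K := K)) (thetaM K (gmPoly i).natDegree)) =
      LaurentPolynomial.eval₂ (sig W) (GmPts.unitOfPt a)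
        (thetaM K (gmPoly i).natDegree (LaurentPolynomial.T 1)) := h2
  rw [h3, thetaM_T, _root_.mul_one, LaurentPolynomial.eval₂_T, zpow_natCast, Units.val_pow_eq_pow_val]
  rfl

instance gmPhi_isMonHom : IsMonHom (gmPhi i) := by
  apply isMonHom_of_points
  · intro W a b
    apply GmPts.gmFn_injective
    change Red.gmFn _ = Red.gmFn _
    rw [gmFn_gmPhi, GmPts.gmFn_mul, GmPts.gmFn_mul, gmFn_gmPhi, gmFn_gmPhi, mul_pow]
  · apply GmPts.gmFn_injective
    change Red.gmFn _ = Red.gmFn _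
    rw [gmFn_gmPhi, GmPts.gmFn_one, one_pow]

lemma gmPhi_isKernel : AlgGrp.IsKernel i (gmPhi i) := by
  apply isKernel_of_factor_iff
  intro W a
  rw [gm_factor_iff, ← Hom.one_def]
  have h1 : Polynomial.eval₂ (sig W) (Red.gmFn a) (gmPoly i) =
      (Red.gmFn a) ^ (gmPoly i).natDegree - 1 := by
    conv_lhs => rw [gmPoly_eq i]
    simp [eval₂_sub, eval₂_X_pow]
  rw [h1, ← gmFn_gmPhi, sub_eq_zero]
  constructor
  · intro h
    apply GmPts.gmFn_injective
    change Red.gmFn _ = Red.gmFn _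
    rw [h, GmPts.gmFn_one]
  · intro h
    rw [h, GmPts.gmFn_one]

lemma gmPhi_flat : Flat (gmPhi i).left := by
  apply flat_phi0
  haveI : IsDedekindDomain K[T;T⁻¹] :=
    IsLocalization.isDedekindDomain (Polynomial K) (M := Submonoid.powers (Polynomial.X : Polynomial K)) (by
      intro x hx
      obtain ⟨n, rfl⟩ := hx
      exact mem_nonZeroDivisors_of_ne_zero (pow_ne_zero _ Polynomial.X_ne_zero)) _
  exact flat_of_injective_of_dedekind _ (thetaM_injective K _ (gmPoly_natDegree i))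

lemma gmPhi_surjective : Surjective (gmPhi i).left := by
  apply surjective_phi0
  exact RingHom.IsIntegral.comap_surjective (thetaM_isIntegral K _ (gmPoly_natDegree i))
    (thetaM_injective K _ (gmPoly_natDegree i))

theorem main_Gm : ∃ φ : Red.Gm (Spec (CommRingCat.of K)) ⟶ Red.Gm (Spec (CommRingCat.of K)),
    IsMonHom φ ∧ AlgGrp.IsKernel i φ ∧ Flat φ.left ∧ Surjective φ.left :=
  ⟨gmPhi i, inferInstance, gmPhi_isKernel i, gmPhi_flat i, gmPhi_surjective i⟩

end Main

end Groth.Agent.Lib.Helper18.FinSub
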