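import Groth.Agent.Lib.Helper18.FinSub.Ga
import Groth.Agent.Lib.Helper18.FinSub.Gm

/-!
# Quotient of `𝔾_a` / `𝔾_m` by a finite subgroup scheme (helper18)
-/

set_option autoImplicit false
set_option linter.unusedSectionVars false
set_option linter.style.haveILetI false
set_option linter.unusedVariables false

namespace Groth.Agent.Lib.Helper18.FinSub

open CategoryTheory MonoidalCategory CartesianMonoidalCategory MonObj GrpObj AlgebraicGeometry Limits

universe u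

variable {K : Type u} [Field K]

theorem transport {G G₀ H : Over (Spec (CommRingCat.of K))} [GrpObj G] [GrpObj G₀] [GrpObj H]
    (e : Grp.mk G ≅ Grp.mk G₀) (i : H ⟶ G) [IsMonHom i] [Mono i] [IsFinite H.hom]
    (hmain : ∀ (i₀ : H ⟶ G₀) [IsMonHom i₀] [Mono i₀], ∃ φ : G₀ ⟶ G₀,
      IsMonHom φ ∧ AlgGrp.IsKernel i₀ φ ∧ Flat φ.left ∧ Surjective φ.left) :
    ∃ φ : G ⟶ G, IsMonHom φ ∧ AlgGrp.IsKernel i φ ∧ Flat φ.left ∧ Surjective φ.left := by
  let eh : G ⟶ G₀ := e.hom.hom.hom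
  let ei : G₀ ⟶ G := e.inv.hom.hom
  have h1 : eh ≫ ei = 𝟙 G := congrArg (fun f => f.hom.hom) e.hom_inv_id
  have h2 : ei ≫ eh = 𝟙 G₀ := congrArg (fun f => f.hom.hom) e.inv_hom_id
  let eG : G ≅ G₀ := ⟨eh, ei, h1, h2⟩
  haveI : IsMonHom eh := inferInstanceAs (IsMonHom e.hom.hom.hom)
  haveI : IsMonHom ei := inferInstanceAs (IsMonHom e.inv.hom.hom)
  haveI : IsIso eh := inferInstanceAs (IsIso eG.hom)
  haveI : IsMonHom (i ≫ eh) := inferInstance
  haveI : Mono (i ≫ eh) := mono_comp _ _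
  obtain ⟨φ₀, hφ₀, hk, hfl, hsu⟩ := hmain (i ≫ eh)
  refine ⟨eh ≫ φ₀ ≫ ei, inferInstance, ?_, ?_, ?_⟩
  · unfold AlgGrp.IsKernel at hk ⊢
    refine IsPullback.of_iso hk (Iso.refl H) eG.symm (Iso.refl _) eG.symm ?_ ?_ ?_ ?_
    · simp only [Iso.symm_hom, Iso.refl_hom, Category.id_comp, Category.assoc]
      change i ≫ eh ≫ ei = i
      rw [h1, Category.comp_id]
    · simp
    · simp only [Iso.symm_hom]
      change φ₀ ≫ ei = ei ≫ eh ≫ φ₀ ≫ ei
      rw [← Category.assoc ei eh, h2, Category.id_comp]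
    · simp only [Iso.symm_hom, Iso.refl_hom, Category.id_comp]
      exact IsMonHom.one_hom (f := ei)
  · have : (eh ≫ φ₀ ≫ ei).left = eh.left ≫ φ₀.left ≫ ei.left := by
      rw [Over.comp_left, Over.comp_left]
    rw [this]
    exact @flat_conj _ _ _ _ eh.left (inferInstanceAs (IsIso ((Over.forget _).mapIso eG).hom)) _ ei.left
      (inferInstanceAs (IsIso ((Over.forget _).mapIso eG).inv)) hfl
  · have : (eh ≫ φ₀ ≫ ei).left = eh.left ≫ φ₀.left ≫ ei.left := by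
      rw [Over.comp_left, Over.comp_left]
    rw [this]
    exact @surjective_conj _ _ _ _ eh.left (inferInstanceAs (IsIso ((Over.forget _).mapIso eG).hom)) _
      ei.left (inferInstanceAs (IsIso ((Over.forget _).mapIso eG).inv)) hsu

theorem main (G H : Over (Spec (CommRingCat.of K))) [GrpObj G] [GrpObj H]
    (hG : Nonempty (Grp.mk G ≅ Grp.mk (Red.Ga (Spec (CommRingCat.of K)))) ∨
      Nonempty (Grp.mk G ≅ Grp.mk (Red.Gm (Spec (CommRingCat.of K)))))
    (i : H ⟶ G) [IsMonHom i] [Mono i] [IsFinite H.hom] :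
    ∃ φ : G ⟶ G, IsMonHom φ ∧ AlgGrp.IsKernel i φ ∧ Flat φ.left ∧ Surjective φ.left := by
  rcases hG with ⟨⟨e⟩⟩ | ⟨⟨e⟩⟩
  · exact transport e i (fun i₀ _ _ => main_Ga i₀)
  · exact transport e i (fun i₀ _ _ => main_Gm i₀)

end Groth.Agent.Lib.Helper18.FinSub
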