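import Groth.Agent.Lib.Helper18.FinSub.Common

/-!
# Factorisation through a closed subscheme, kernels, endomorphisms of `Spec A` (helper18)
-/

set_option autoImplicit false
set_option linter.unusedSectionVars false
set_option linter.style.haveILetI false
set_option linter.unusedVariables false

namespace Groth.Agent.Lib.Helper18.FinSub

open CategoryTheory MonoidalCategory CartesianMonoidalCategory MonObj GrpObj AlgebraicGeometry Limits
open Groth.Agent.Lib.Helper25.GaPts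

universe u

variable {K : Type u} [CommRing K]

section Factor

variable {A : Type u} [CommRing A] [Algebra K A] {H G₀ : Over (Spec (CommRingCat.of K))}

lemma factor_iff (β : G₀ ≅ T (k := K) A) (i : H ⟶ G₀) [IsAffine H.left]
    (hsurj : Function.Surjective (rho (i ≫ β.hom))) {W : Over (Spec (CommRingCat.of K))} (a : W ⟶ G₀) :
    (∃ h : W ⟶ H, h ≫ i = a) ↔
      RingHom.ker (rho (i ≫ β.hom)) ≤ RingHom.ker (rho (a ≫ β.hom)) := by
  constructor
  · rintro ⟨h, rfl⟩ x hx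
    rw [RingHom.mem_ker] at hx ⊢
    rw [Category.assoc, rho_comp, RingHom.comp_apply, hx, map_zero]
  · intro hle
    set ψ := rho (i ≫ β.hom) with hψ
    set ρa := rho (a ≫ β.hom) with hρa
    let φ : Γ(H.left, ⊤) →+* Γ(W.left, ⊤) := RingHom.liftOfSurjective ψ hsurj ⟨ρa, hle⟩
    have hφψ : φ.comp ψ = ρa := RingHom.liftOfSurjective_comp ψ hsurj ⟨ρa, hle⟩
    have hφ : φ.comp (sig H) = sig W := by
      rw [← rho_comp_algebraMap (i ≫ β.hom), ← RingHom.comp_assoc, hφψ, rho_comp_algebraMap]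
    refine ⟨mkPt φ hφ, ?_⟩
    rw [← cancel_mono β.hom]
    apply rho_injective
    rw [Category.assoc, rho_comp, ← hρa, ← hφψ]
    refine RingHom.ext fun x => ?_
    simp only [RingHom.comp_apply]
    exact mkPt_appTop φ hφ _

end Factor

section Ker

lemma isKernel_of_factor_iff {H G₀ : Over (Spec (CommRingCat.of K))} [GrpObj G₀] (i : H ⟶ G₀) [Mono i]
    (φ₀ : G₀ ⟶ G₀)
    (hf : ∀ (W : Over (Spec (CommRingCat.of K))) (a : W ⟶ G₀),
      (∃ h : W ⟶ H, h ≫ i = a) ↔ a ≫ φ₀ = toUnit W ≫ η[G₀]) :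
    AlgGrp.IsKernel i φ₀ := by
  unfold AlgGrp.IsKernel
  have w : i ≫ φ₀ = toUnit H ≫ η[G₀] := (hf H i).mp ⟨𝟙 H, Category.id_comp i⟩
  have key : ∀ s : PullbackCone φ₀ η[G₀], ∃ h : s.pt ⟶ H, h ≫ i = s.fst := fun s =>
    (hf _ s.fst).mpr (by rw [s.condition]; congr 1; exact toUnit_unique _ _)
  refine ⟨⟨w⟩, ⟨PullbackCone.IsLimit.mk _ (fun s => (key s).choose) (fun s => (key s).choose_spec)
    (fun s => toUnit_unique _ _) ?_⟩⟩
  intro s m hm _
  rw [← cancel_mono i, hm, (key s).choose_spec]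

end Ker

section Endo

variable {A : Type u} [CommRing A] [Algebra K A] {G₀ : Over (Spec (CommRingCat.of K))}

/-- The endomorphism of `G₀ ≅ Spec A` attached to an algebra endomorphism of `A`. -/
noncomputable def phi0 (β : G₀ ≅ T (k := K) A) (θ : A →ₐ[K] A) : G₀ ⟶ G₀ := β.hom ≫ Tmap θ ≫ β.inv

lemma rho_phi0 (β : G₀ ≅ T (k := K) A) (θ : A →ₐ[K] A) {W : Over (Spec (CommRingCat.of K))}
    (a : W ⟶ G₀) :
    rho ((a ≫ phi0 β θ) ≫ β.hom) = (rho (a ≫ β.hom)).comp θ.toRingHom := by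
  have : (a ≫ phi0 β θ) ≫ β.hom = (a ≫ β.hom) ≫ Tmap θ := by
    simp [phi0]
  rw [this, rho_comp_Tmap]

lemma phi0_left (β : G₀ ≅ T (k := K) A) (θ : A →ₐ[K] A) :
    (phi0 β θ).left = β.hom.left ≫ Spec.map (CommRingCat.ofHom θ.toRingHom) ≫ β.inv.left := by
  unfold phi0
  rw [Over.comp_left, Over.comp_left, Tmap_left]
  rfl

lemma isIso_left_hom (β : G₀ ≅ T (k := K) A) : IsIso β.hom.left :=
  (inferInstance : IsIso ((Over.forget _).mapIso β).hom)

lemma isIso_left_inv (β : G₀ ≅ T (k := K) A) : IsIso β.inv.left :=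
  (inferInstance : IsIso ((Over.forget _).mapIso β).inv)

lemma flat_conj {X Y Y' Z : Scheme.{u}} (f : X ⟶ Y) [IsIso f] (g : Y ⟶ Y') (h : Y' ⟶ Z) [IsIso h]
    (hg : Flat g) : Flat (f ≫ g ≫ h) := by
  haveI := hg
  infer_instance

lemma surjective_conj {X Y Y' Z : Scheme.{u}} (f : X ⟶ Y) [IsIso f] (g : Y ⟶ Y') (h : Y' ⟶ Z) [IsIso h]
    (hg : Surjective g) : Surjective (f ≫ g ≫ h) := by
  haveI := hg
  infer_instance

lemma flat_phi0 (β : G₀ ≅ T (k := K) A) (θ : A →ₐ[K] A) (hθ : θ.toRingHom.Flat) :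
    Flat (phi0 β θ).left := by
  rw [phi0_left]
  haveI := isIso_left_hom β
  haveI := isIso_left_inv β
  have h1 : Flat (Spec.map (CommRingCat.ofHom θ.toRingHom)) := Flat.SpecMap_iff.mpr hθ
  exact @flat_conj _ _ _ _ β.hom.left (isIso_left_hom β) _ β.inv.left (isIso_left_inv β) h1

lemma surjective_phi0 (β : G₀ ≅ T (k := K) A) (θ : A →ₐ[K] A)
    (hθ : Function.Surjective (PrimeSpectrum.comap θ.toRingHom)) :
    Surjective (phi0 β θ).left := by
  rw [phi0_left]
  haveI := isIso_left_hom β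
  haveI := isIso_left_inv β
  have h1 : Surjective (Spec.map (CommRingCat.ofHom θ.toRingHom)) := ⟨hθ⟩
  exact @surjective_conj _ _ _ _ β.hom.left (isIso_left_hom β) _ β.inv.left (isIso_left_inv β) h1

end Endo

end Groth.Agent.Lib.Helper18.FinSub
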